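import Groth.Agent.L24.OneMot.Semiab
import Mathlib.AlgebraicGeometry.Morphisms.Etale
import Mathlib.GroupTheory.Torsion
import Mathlib.LinearAlgebra.FreeModule.Finite.Basic

/-!
# Rational points of lattices
-/

set_option autoImplicit false
set_option linter.style.haveILetI false
set_option backward.isDefEq.respectTransparency.types false

universe u

open CategoryTheory CategoryTheory.Limits MonoidalCategory CartesianMonoidalCategory MonObj AlgebraicGeometry

noncomputable section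

namespace Groth.L24.OneMot

variable {k : Type u} [Field k] [IsAlgClosed k]

local notation "pt₀" => 𝟙_ (Over (Spec (CommRingCat.of k)))

/-- Over an algebraically closed field a lattice is a discrete scheme with points a free abelian group. -/
theorem exists_points (L : Over (Spec (CommRingCat.of k))) [GrpObj L] (hL : OneMot.IsLattice L) :
    Etale L.hom ∧ ∃ r : ℕ, Nonempty (Multiplicative (Fin r → ℤ) ≃* (pt₀ ⟶ L)) := by
  obtain ⟨S', f, hf, ⟨s', hs'⟩, r, e, he⟩ := hL (IsLocalRing.closedPoint k)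
  haveI := hf
  let M := Multiplicative (Fin r → ℤ)
  haveI : Surjective f := ⟨fun x => ⟨s', hs'.trans (Subsingleton.elim (α := PrimeSpectrum k) _ _)⟩⟩
  have hc : Etale (TwC.const S' M).hom := IsZariskiLocalAtSource.sigmaDesc (P := @Etale) fun _ => inferInstance
  haveI : IsIso e.hom.left := inferInstanceAs (IsIso ((Over.forget _).map e.hom))
  have hbc : Etale (Red.bc f L).hom := by rw [← Over.w e.hom]; exact inferInstance
  refine ⟨MorphismProperty.of_isPullback_of_descendsAlong (P := @Etale)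
    (Q := @Surjective ⊓ @Flat ⊓ @LocallyOfFinitePresentation) (IsPullback.of_hasPullback L.hom f).flip
    ⟨⟨‹_›, inferInstance⟩, inferInstance⟩ hbc, r, ?_⟩
  haveI : JacobsonSpace S' := LocallyOfFiniteType.jacobsonSpace f
  obtain ⟨x, -, hx⟩ := nonempty_inter_closedPoints (X := S') (Z := Set.univ) ⟨s', trivial⟩ isOpen_univ.isLocallyClosed
  let σ : Spec (CommRingCat.of k) ⟶ S' := pointOfClosedPoint f x hx
  have hσ : σ ≫ f = 𝟙 _ := pointOfClosedPoint_comp f x hx
  let F := Over.pullback σ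
  let iso : Grp.mk (F.obj (Red.bc f L)) ≅ Grp.mk L :=
    Grp.mkIso' (ActBC.bcCompIso σ f L hσ) ≪≫ (Functor.mapGrpNatIso (Over.pullbackId (X := Spec (CommRingCat.of k)))).app (Grp.mk L) ≪≫
      Functor.mapGrpIdIso.app (Grp.mk L)
  let χ : F.obj (Red.bc f L) ⟶ L := iso.hom.hom.hom
  let χ' : L ⟶ F.obj (Red.bc f L) := iso.inv.hom.hom
  have hχ : χ ≫ χ' = 𝟙 _ := congr($(iso.hom_inv_id).hom.hom)
  have hχ' : χ' ≫ χ = 𝟙 _ := congr($(iso.inv_hom_id).hom.hom)
  haveI : IsMonHom χ := iso.hom.hom.isMonHom_hom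
  let can : pt₀ ⟶ F.obj (𝟙_ (Over S')) := Over.homMk (pullback.lift σ (𝟙 _) (by
    show σ ≫ 𝟙 _ = 𝟙 _ ≫ σ
    rw [Category.comp_id, Category.id_comp])) (pullback.lift_snd _ _ _)
  let v : M →* (𝟙_ (Over S') ⟶ Red.bc f L) :=
    MonoidHom.mk' (fun m => TwC.pt S' M m ≫ e.inv) fun m n => (he m n).symm
  let E : (𝟙_ (Over S') ⟶ Red.bc f L) →* (pt₀ ⟶ L) :=
    MonoidHom.mk' (fun u => can ≫ F.map u ≫ χ) fun a b => by
      show can ≫ F.homMonoidHom (a * b) ≫ χ = _
      rw [map_mul, MonObj.mul_comp, MonObj.comp_mul]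
      rfl
  refine ⟨MulEquiv.ofBijective (E.comp v) ⟨fun m n hmn => ?_, fun t => ?_⟩⟩
  · -- injectivity
    have h1 : can ≫ F.map (TwC.pt S' M m) = can ≫ F.map (TwC.pt S' M n) := by
      have h2 : (can ≫ F.map (TwC.pt S' M m ≫ e.inv) ≫ χ) ≫ χ' ≫ F.map e.hom =
          (can ≫ F.map (TwC.pt S' M n ≫ e.inv) ≫ χ) ≫ χ' ≫ F.map e.hom := congrArg (· ≫ χ' ≫ F.map e.hom) hmn
      simp only [Category.assoc, reassoc_of% hχ, ← F.map_comp] at h2
      rwa [e.inv_hom_id, Category.comp_id, Category.comp_id] at h2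
    have h3 : ∀ l, (can ≫ F.map (TwC.pt S' M l)).left ≫ pullback.fst (TwC.const S' M).hom σ =
        σ ≫ Sigma.ι (fun _ : M => S') l := fun l => by
      have h4 : (F.map (TwC.pt S' M l)).left ≫ pullback.fst (TwC.const S' M).hom σ =
          pullback.fst (𝟙_ (Over S')).hom σ ≫ (TwC.pt S' M l).left := pullback.lift_fst _ _ _
      rw [Over.comp_left, Category.assoc, h4]
      exact pullback.lift_fst_assoc _ _ _ _
    by_contra hne
    have h5 : σ ≫ Sigma.ι (fun _ : M => S') m = σ ≫ Sigma.ι (fun _ : M => S') n := by rw [← h3, h1, h3]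
    exact (isEmpty_of_commSq_sigmaι_of_ne ⟨h5⟩ hne).false (IsLocalRing.closedPoint k)
  · -- surjectivity
    let p : pt₀ ⟶ F.obj (TwC.const S' M) := t ≫ χ' ≫ F.map e.hom
    let a : Spec (CommRingCat.of k) ⟶ ∐ fun _ : M => S' := p.left ≫ pullback.fst (TwC.const S' M).hom σ
    have ha : a ≫ Sigma.desc (fun _ : M => 𝟙 S') = σ := by
      have h1 : p.left ≫ pullback.snd (TwC.const S' M).hom σ = 𝟙 _ := Over.w p
      show (_ ≫ _) ≫ (TwC.const S' M).hom = σ
      rw [Category.assoc, pullback.condition, reassoc_of% h1]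
    obtain ⟨m, z, hz⟩ := (sigmaOpenCover fun _ : M => S').exists_eq (a (IsLocalRing.closedPoint k))
    have hr : Set.range a ⊆ Set.range (Sigma.ι (fun _ : M => S') m) := by
      rintro _ ⟨y, rfl⟩
      rw [Subsingleton.elim (α := PrimeSpectrum k) y (IsLocalRing.closedPoint k)]
      exact ⟨z, hz⟩
    let b := IsOpenImmersion.lift (Sigma.ι (fun _ : M => S') m) a hr
    have hb : b = σ := by
      rw [← ha, ← IsOpenImmersion.lift_fac (Sigma.ι (fun _ : M => S') m) a hr, Category.assoc, Sigma.ι_desc,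
        Category.comp_id]
    have hp : p = can ≫ F.map (TwC.pt S' M m) := by
      refine Over.OverMorphism.ext (pullback.hom_ext ?_ ((Over.w p).trans (Over.w _).symm))
      have h4 : (F.map (TwC.pt S' M m)).left ≫ pullback.fst (TwC.const S' M).hom σ =
          pullback.fst (𝟙_ (Over S')).hom σ ≫ (TwC.pt S' M m).left := pullback.lift_fst _ _ _
      conv_rhs => rw [Over.comp_left, Category.assoc, h4]
      exact ((IsOpenImmersion.lift_fac _ a hr).symm.trans (congrArg (· ≫ _) hb)).trans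
        (pullback.lift_fst_assoc _ _ _ _).symm
    refine ⟨m, ?_⟩
    show can ≫ F.map (TwC.pt S' M m ≫ e.inv) ≫ χ = t
    rw [F.map_comp, Category.assoc, ← reassoc_of% hp]
    simp only [p, Category.assoc, ← F.map_comp_assoc, e.hom_inv_id]
    rw [F.map_id, Category.id_comp, hχ', Category.comp_id]

theorem lattice_props (L : Over (Spec (CommRingCat.of k))) [GrpObj L] (hL : OneMot.IsLattice L) :
    LocallyOfFiniteType L.hom ∧ IsReduced L.left ∧ ∀ x : L.left, IsClosed ({x} : Set L.left) := by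
  obtain ⟨hE, -⟩ := exists_points L hL
  refine ⟨inferInstance, Groth.Agent.AV.isReduced_of_smooth_field L.hom, fun x => ?_⟩
  have hd := L.hom.isDiscrete_preimage_singleton (L.hom x)
  rw [show L.hom ⁻¹' {L.hom x} = Set.univ from Set.eq_univ_of_forall fun y =>
    Subsingleton.elim (α := PrimeSpectrum k) (L.hom y) (L.hom x), isDiscrete_univ_iff] at hd
  exact isClosed_discrete _

/-- The only infinitely divisible rational point of a lattice is the trivial one. -/
theorem eq_one_of_divisible {L : Over (Spec (CommRingCat.of k))} [GrpObj L] (hL : OneMot.IsLattice L)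
    (x : pt₀ ⟶ L) (h : ∀ m : ℕ, 0 < m → ∃ y, y ^ m = x) : x = 1 := by
  obtain ⟨-, r, ⟨ψ⟩⟩ := exists_points L hL
  obtain ⟨a, rfl⟩ := ψ.surjective x
  suffices ha : a = 1 by rw [ha, map_one]
  refine Multiplicative.toAdd.injective (funext fun i => ?_)
  obtain ⟨y, hy⟩ := h ((Multiplicative.toAdd a i).natAbs + 1) (Nat.succ_pos _)
  obtain ⟨b, rfl⟩ := ψ.surjective y
  rw [← map_pow] at hy
  have h1 := congrFun (congrArg Multiplicative.toAdd (ψ.injective hy)) i
  rw [toAdd_pow, Pi.smul_apply, nsmul_eq_mul] at h1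
  exact Int.eq_zero_of_abs_lt_dvd ⟨_, h1.symm⟩ (by rw [Int.abs_eq_natAbs]; push_cast; omega)

theorem eq_one_of_pow {L : Over (Spec (CommRingCat.of k))} [GrpObj L] (hL : OneMot.IsLattice L)
    (x : pt₀ ⟶ L) {m : ℕ} (hm : 0 < m) (h : x ^ m = 1) : x = 1 := by
  obtain ⟨-, r, ⟨ψ⟩⟩ := exists_points L hL
  obtain ⟨a, rfl⟩ := ψ.surjective x
  rw [← map_pow, map_eq_one_iff ψ ψ.injective] at h
  suffices ha : a = 1 by rw [ha, map_one]
  refine Multiplicative.toAdd.injective (funext fun i => ?_)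
  have h1 := congrFun (congrArg Multiplicative.toAdd h) i
  rw [toAdd_pow, Pi.smul_apply, nsmul_eq_mul] at h1
  exact (mul_eq_zero.1 h1).resolve_left (by exact_mod_cast hm.ne')

/-- A homomorphism into a lattice whose image is dense for all congruence topologies is surjective. -/
theorem surjective_of_mod {L L' : Over (Spec (CommRingCat.of k))} [GrpObj L] [IsCommMonObj L] [GrpObj L']
    [IsCommMonObj L'] (hL' : OneMot.IsLattice L') (φ : (pt₀ ⟶ L) →* (pt₀ ⟶ L'))
    (h : ∀ (m : ℕ), 0 < m → ∀ y, ∃ x z, φ x = y * z ^ m) : Function.Surjective φ := by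
  obtain ⟨-, r, ⟨ψ⟩⟩ := exists_points L' hL'
  let P : AddSubgroup (Fin r → ℤ) := Subgroup.toAddSubgroup (ψ.symm.toMonoidHom.comp φ).range
  let P' : Submodule ℤ (Fin r → ℤ) := AddSubgroup.toIntSubmodule P
  suffices hP : P' = ⊤ by
    intro y
    obtain ⟨x, hx⟩ : Multiplicative.toAdd (ψ.symm y) ∈ P' := hP ▸ Submodule.mem_top
    exact ⟨x, ψ.symm.injective (Multiplicative.toAdd.injective hx)⟩
  have hdiv : ∀ (n : ℤ), n ≠ 0 → ∀ q : (Fin r → ℤ) ⧸ P', ∃ q', n • q' = q := by
    intro n hn q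
    induction q using Submodule.Quotient.induction_on with
    | H a =>
      obtain ⟨x, z, hxz⟩ := h n.natAbs (Int.natAbs_pos.2 hn) (ψ (Multiplicative.ofAdd a))
      let c : Fin r → ℤ := Multiplicative.toAdd (ψ.symm z)
      have hmem : a + (n.natAbs : ℤ) • c ∈ P' := ⟨x, by
        show ψ.symm (φ x) = _
        rw [hxz, map_mul, map_pow, MulEquiv.symm_apply_apply, natCast_zsmul]
        rfl⟩
      refine ⟨Submodule.Quotient.mk (-(n.sign • c)), ?_⟩
      rw [← Submodule.Quotient.mk_smul, Submodule.Quotient.eq, smul_neg, smul_smul, Int.mul_sign_self,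
        show -((n.natAbs : ℤ) • c) - a = -(a + (n.natAbs : ℤ) • c) by abel]
      exact neg_mem hmem
  let Q := (Fin r → ℤ) ⧸ P'
  have hsm : ∀ n : ℤ, n ≠ 0 → (⊤ : Submodule ℤ Q) ≤ Ideal.span {n} • ⊤ := fun n hn q _ => by
    obtain ⟨q', rfl⟩ := hdiv n hn q
    exact Submodule.smul_mem_smul (Ideal.mem_span_singleton_self n) trivial
  obtain ⟨s, hs, hs0⟩ := Submodule.exists_sub_one_mem_and_smul_eq_zero_of_fg_of_le_smul _ _
    Module.Finite.fg_top (hsm 2 two_ne_zero)
  have hs1 : s ≠ 0 := by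
    rintro rfl
    rw [Ideal.mem_span_singleton] at hs
    omega
  refine eq_top_iff.2 fun a _ => ?_
  obtain ⟨q', hq'⟩ := hdiv s hs1 (Submodule.Quotient.mk a)
  exact (Submodule.Quotient.mk_eq_zero P').1 (hq'.symm.trans (hs0 q' trivial))

end Groth.L24.OneMot
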