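import Groth.Agent.L24.OneMot.Ext
import Groth.Agent.L26.AV.Subgroup
import Groth.Agent.L26.AV.PointClosure
import Groth.Agent.L26.AV.Isogeny
import Groth.Agent.L26.AV.TorsPts
import Groth.Agent.L19.AlgGrpBasic.GmProper
import Groth.Agent.L25.SplitSub.KernelField
import Groth.Agent.L08.MulEtaleBC
import Groth.Agent.L08.FlatHom
import Groth.Agent.L18.GIT.TorusChars
import Mathlib.RingTheory.RootsOfUnity.EnoughRootsOfUnity
import Mathlib.AlgebraicGeometry.Morphisms.FlatMono
import Mathlib.AlgebraicGeometry.AffineSpace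
import Mathlib.GroupTheory.FiniteAbelian.Duality
import Mathlib.Algebra.Module.ZMod
open scoped Pointwise

/-!
# Rational points of semi-abelian varieties over an algebraically closed field
-/

set_option autoImplicit false
set_option linter.style.haveILetI false
set_option backward.isDefEq.respectTransparency.types false

universe u

open CategoryTheory CategoryTheory.Limits MonoidalCategory CartesianMonoidalCategory MonObj AlgebraicGeometry

noncomputable section

namespace Groth.L24.OneMot

variable {k : Type u} [Field k] [IsAlgClosed k]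

local notation "S₀" => Spec (CommRingCat.of k)

local notation "pt₀" => 𝟙_ (Over (Spec (CommRingCat.of k)))

/-- Points lift along surjections. -/
theorem exists_lift {X Y : Over S₀} (φ : X ⟶ Y) [Surjective φ.left] [LocallyOfFiniteType φ.left]
    (Q : pt₀ ⟶ Y) : ∃ P : pt₀ ⟶ X, P ≫ φ = Q := by
  let e : Groth.Agent.AV.Isogeny.geomPt k k ⟶ pt₀ := toUnit _
  haveI : IsIso e := by
    haveI : IsIso e.left := by
      have he : e.left = Spec.map (CommRingCat.ofHom (algebraMap k k)) := by
        have := Over.w e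
        exact (Category.comp_id _).symm.trans this
      rw [he, Groth.L25.Locus.specMap_self k]; exact inferInstanceAs (IsIso (𝟙 (Spec (CommRingCat.of k))))
    haveI : IsIso ((Over.forget _).map e) := this
    exact isIso_of_reflects_iso e (Over.forget _)
  obtain ⟨P, hP⟩ := Groth.Agent.AV.Isogeny.exists_lift_point φ (e ≫ Q)
  exact ⟨inv e ≫ P, by rw [Category.assoc, hP, IsIso.inv_hom_id_assoc]⟩

/-- Morphisms from a reduced scheme agreeing on rational points are equal. -/
theorem ext_pts {X Y : Over S₀} [LocallyOfFiniteType X.hom] [IsReduced X.left] [IsSeparated Y.hom]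
    (f g : X ⟶ Y) (h : ∀ P : pt₀ ⟶ X, P ≫ f = P ≫ g) : f = g := by
  refine Groth.Agent.AV.Isogeny.ext_of_points k f g fun P => ?_
  let e : Groth.Agent.AV.Isogeny.geomPt k k ⟶ pt₀ := toUnit _
  haveI : IsIso e := by
    haveI : IsIso e.left := by
      have he : e.left = Spec.map (CommRingCat.ofHom (algebraMap k k)) := by
        have := Over.w e
        exact (Category.comp_id _).symm.trans this
      rw [he, Groth.L25.Locus.specMap_self k]; exact inferInstanceAs (IsIso (𝟙 (Spec (CommRingCat.of k))))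
    haveI : IsIso ((Over.forget _).map e) := this
    exact isIso_of_reflects_iso e (Over.forget _)
  rw [← IsIso.hom_inv_id_assoc e P, Category.assoc, Category.assoc, Category.assoc, Category.assoc,
    ← Category.assoc (inv e), h (inv e ≫ P), Category.assoc]

theorem isReduced_pt : IsReduced (pt₀).left := inferInstanceAs (IsReduced (Spec (CommRingCat.of k)))

/-- A set of points is dense if every closed point in an open set meets it. -/
theorem dense_of_pts {X : Over S₀} [LocallyOfFiniteType X.hom] {Z : Set X.left} (hZ : IsClosed Z)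
    (h : ∀ P : pt₀ ⟶ X, P.left (IsLocalRing.closedPoint k) ∈ Z) : Z = Set.univ := by
  haveI : JacobsonSpace X.left := LocallyOfFiniteType.jacobsonSpace X.hom
  by_contra hne
  obtain ⟨x, hx, hxc⟩ := nonempty_inter_closedPoints (Set.nonempty_compl.2 hne) hZ.isOpen_compl.isLocallyClosed
  obtain ⟨P, rfl⟩ := Groth.L25.Locus.exists_point hxc
  exact hx (h P)

/-- A homomorphism with trivial kernel on rational points is a monomorphism in characteristic zero. -/
theorem mono_of_pts [CharZero k] {G H : Over S₀} [GrpObj G] [GrpObj H] [LocallyOfFiniteType G.hom]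
    [LocallyOfFiniteType H.hom] (φ : G ⟶ H) [IsMonHom φ] (hφ : ∀ x : pt₀ ⟶ G, x ≫ φ = 1 → x = 1) :
    Mono φ := by
  haveI : IsSeparated H.hom := Groth.Agent.AV.isSeparated_of_grpObj H
  haveI : IsSeparated G.hom := Groth.Agent.AV.isSeparated_of_grpObj G
  refine ⟨fun {V} a b hab => ?_⟩
  let K := pullback φ η[H]
  let i : K ⟶ G := pullback.fst φ η[H]
  have hi : i ≫ φ = 1 := by
    rw [Hom.one_def, toUnit_unique (toUnit K) (pullback.snd φ η[H])]
    exact pullback.condition
  haveI : Mono η[H] := (IsSplitMono.mk' ⟨toUnit H, toUnit_unique _ _⟩).mono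
  haveI : Mono i := inferInstance
  have hlift : ∀ {V : Over S₀} (f : V ⟶ G), f ≫ φ = 1 → ∃ z : V ⟶ K, z ≫ i = f :=
    fun {V} f hf => ⟨pullback.lift f (toUnit V) (by rw [hf, Hom.one_def]), pullback.lift_fst _ _ _⟩
  haveI : IsClosedImmersion η[H].left :=
    isClosedImmersion_of_comp_eq_id (Y := Spec (CommRingCat.of k)) H.hom η[H].left (Over.w η[H])
  haveI : IsClosedImmersion i.left :=
    MorphismProperty.of_isPullback ((IsPullback.of_hasPullback φ η[H]).map (Over.forget _)).flip ‹_›
  obtain ⟨gK, hiK⟩ := Groth.L08.exists_grpObj_of_mono i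
    (hlift η[G] (IsMonHom.one_hom φ |>.trans (by rw [Hom.one_def, toUnit_unique (toUnit _) (𝟙 _), Category.id_comp])))
    (hlift _ (by rw [MonObj.mul_comp, Category.assoc, Category.assoc, hi, MonObj.comp_one, MonObj.comp_one,
      _root_.one_mul]))
    (hlift _ (by rw [GrpObj.inv_comp, hi, inv_one]))
  letI := gK
  haveI : LocallyOfFiniteType K.hom := by rw [← Over.w i]; infer_instance
  haveI : GrpObj (Over.mk K.hom) := inferInstanceAs (GrpObj K)
  haveI : Smooth K.hom := Groth.L25.GrpDeriv.smooth_of_charZero K.hom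
  haveI : IsReduced K.left := Groth.Agent.AV.isReduced_of_smooth_field K.hom
  have hi1 : i = 1 := ext_pts i 1 fun P => by
    rw [MonObj.comp_one]; exact hφ _ (by rw [Category.assoc, hi, MonObj.comp_one])
  obtain ⟨z, hz⟩ := hlift (a / b) (by rw [GrpObj.div_comp, hab, div_self'])
  rw [hi1, MonObj.comp_one] at hz
  exact div_eq_one.1 hz.symm

/-- A surjective homomorphism which is injective on rational points is an isomorphism in characteristic zero. -/
theorem isIso_of_pts [CharZero k] {G H : Over S₀} [GrpObj G] [GrpObj H] [LocallyOfFiniteType G.hom]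
    [LocallyOfFiniteType H.hom] (φ : G ⟶ H) [IsMonHom φ] [Surjective φ.left]
    (hφ : ∀ x : pt₀ ⟶ G, x ≫ φ = 1 → x = 1) : IsIso φ := by
  haveI : GrpObj (Over.mk H.hom) := inferInstanceAs (GrpObj H)
  haveI : Smooth H.hom := Groth.L25.GrpDeriv.smooth_of_charZero H.hom
  haveI : IsReduced H.left := Groth.Agent.AV.isReduced_of_smooth_field H.hom
  haveI : Flat φ.left := Groth.L08.FlatHom.flat_of_surjective G H φ
  haveI := mono_of_pts φ hφ
  haveI : Mono φ.left := inferInstanceAs (Mono ((Over.forget _).map φ))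
  haveI : LocallyOfFiniteType (φ.left ≫ H.hom) := by rw [Over.w φ]; infer_instance
  haveI : LocallyOfFiniteType φ.left := locallyOfFiniteType_of_comp φ.left H.hom
  haveI : IsLocallyNoetherian H.left := LocallyOfFiniteType.isLocallyNoetherian H.hom
  haveI : IsOpenImmersion φ.left := IsOpenImmersion.of_flat_of_mono φ.left
  haveI : IsIso φ.left := (isIso_iff_isOpenImmersion_and_epi_base _).2 ⟨inferInstance,
    (TopCat.epi_iff_surjective _).2 φ.left.surjective⟩
  haveI : IsIso ((Over.forget _).map φ) := ‹IsIso φ.left›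
  exact isIso_of_reflects_iso φ (Over.forget _)

/-- A non-trivial finitely generated abelian group has a non-trivial torsion character. -/
theorem exists_torsion_char [CharZero k] {Q : Type} [AddCommGroup Q] [Module.Finite ℤ Q] [Nontrivial Q] :
    ∃ (χ : Multiplicative Q →* k) (m : ℕ), 0 < m ∧ χ ≠ 1 ∧ ∀ q, χ q ^ m = 1 := by
  classical
  obtain ⟨P, hP, hfin⟩ : ∃ P : Submodule ℤ Q, P ≠ ⊤ ∧ Finite (Q ⧸ P) := by
    by_cases h2 : ((2 : ℤ) • (⊤ : Submodule ℤ Q)) = ⊤
    · obtain ⟨r, hr, hr0⟩ := Submodule.exists_sub_one_mem_and_smul_eq_zero_of_fg_of_le_smul (Ideal.span {(2 : ℤ)})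
        (⊤ : Submodule ℤ Q) Module.Finite.fg_top (by rw [Submodule.ideal_span_singleton_smul, h2])
      have hr1 : r ≠ 0 := by
        rintro rfl
        rw [Ideal.mem_span_singleton] at hr
        omega
      haveI : Module.IsTorsion ℤ Q → Finite Q := fun hQ => Module.finite_of_fg_torsion Q hQ
      refine ⟨⊥, bot_ne_top, ?_⟩
      haveI : Finite Q := this fun {x} => ⟨⟨r, mem_nonZeroDivisors_of_ne_zero hr1⟩, hr0 x trivial⟩
      exact Finite.of_surjective (Submodule.mkQ ⊥) (Submodule.mkQ_surjective _)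
    · refine ⟨_, h2, ?_⟩
      exact Module.finite_of_fg_torsion _ fun {x} => ⟨⟨2, mem_nonZeroDivisors_of_ne_zero two_ne_zero⟩, by
        induction x using Submodule.Quotient.induction_on with
        | H x =>
          refine (Submodule.Quotient.mk_eq_zero _).2 ?_
          exact Submodule.smul_mem_pointwise_smul x 2 ⊤ trivial⟩
  haveI : Finite (Multiplicative (Q ⧸ P)) := hfin
  obtain ⟨x, hx⟩ : ∃ x : Q, x ∉ P := by
    by_contra hx; push Not at hx
    exact hP (eq_top_iff.2 fun x _ => hx x)
  let G := Multiplicative (Q ⧸ P)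
  haveI : NeZero ((Monoid.exponent G : ℕ) : k) :=
    ⟨Nat.cast_ne_zero.2 Monoid.exponent_ne_zero_of_finite⟩
  obtain ⟨φ, hφ⟩ := CommGroup.exists_apply_ne_one_of_hasEnoughRootsOfUnity G k
    (a := Multiplicative.ofAdd (Submodule.Quotient.mk x : Q ⧸ P)) (fun h => hx
      ((Submodule.Quotient.mk_eq_zero P).1 (Multiplicative.ofAdd.injective h)))
  let π : Multiplicative Q →* G := AddMonoidHom.toMultiplicative P.mkQ.toAddMonoidHom
  refine ⟨(Units.coeHom k).comp (φ.comp π), Monoid.exponent G, Nat.pos_of_ne_zero Monoid.exponent_ne_zero_of_finite,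
    fun h => hφ (Units.ext (DFunLike.congr_fun h (Multiplicative.ofAdd x))), fun q => ?_⟩
  show ((φ (π q) : kˣ) : k) ^ _ = 1
  rw [← Units.val_pow_eq_pow_val, ← map_pow, Monoid.pow_exponent_eq_one, map_one, Units.val_one]

/-- A torus over an algebraically closed field is split by a finitely generated group of characters. -/
theorem exists_split_fg (T : Over S₀) [GrpObj T] (hT : Red.IsTorus T) :
    ∃ (M : Type) (_ : AddCommGroup M), AddGroup.FG M ∧ Nonempty (Grp.mk T ≅ Grp.mk (Red.DS S₀ M)) := by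
  obtain ⟨S', f, hf, ⟨s', -⟩, M, _, hM, ⟨e⟩⟩ :=
    Groth.L25.Extend.exists_etale_split (Groth.L25.Locus.isMultTypeFT_of_isTorus hT) (IsLocalRing.closedPoint k)
  have : JacobsonSpace S' := LocallyOfFiniteType.jacobsonSpace f
  obtain ⟨x, -, hx⟩ := nonempty_inter_closedPoints (X := S') (Z := Set.univ) ⟨s', trivial⟩ isOpen_univ.isLocallyClosed
  let σ := pointOfClosedPoint f x hx
  have hσ : σ ≫ f = 𝟙 S₀ := pointOfClosedPoint_comp f x hx
  refine ⟨M, inferInstance, hM, ⟨?_⟩⟩
  exact (Functor.mapGrpIdIso.app (Grp.mk T)).symm ≪≫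
    (Functor.mapGrpNatIso (Over.pullbackId (X := S₀)).symm).app (Grp.mk T) ≪≫
    (Grp.mkIso' (ActBC.bcCompIso σ f T hσ)).symm ≪≫
    (Over.pullback σ).mapGrp.mapIso e ≪≫
    Grp.mkIso' (ActBC.bcCompIso σ (Limits.IsTerminal.from specULiftZIsTerminal S') (Red.diag (ULift.{u} ℤ) M)
      (specULiftZIsTerminal.hom_ext _ _))

/-- A homomorphism out of a torus which is injective on torsion points is injective on points. -/
theorem torus_injective [CharZero k] {T G : Over S₀} [GrpObj T] (hT : Red.IsTorus T) [GrpObj G]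
    [LocallyOfFiniteType G.hom] (φ : T ⟶ G) [IsMonHom φ]
    (hφ : ∀ (m : ℕ) (t : pt₀ ⟶ T), 0 < m → t ^ m = 1 → t ≫ φ = 1 → t = 1)
    (t : pt₀ ⟶ T) (ht : t ≫ φ = 1) : t = 1 := by
  haveI : IsSeparated G.hom := Groth.Agent.AV.isSeparated_of_grpObj G
  obtain ⟨M, _, hM, ⟨e⟩⟩ := exists_split_fg T hT
  let j : Red.DS S₀ M ⟶ T := e.inv.hom.hom
  let j' : T ⟶ Red.DS S₀ M := e.hom.hom.hom
  have hj : j' ≫ j = 𝟙 T := congr($(e.hom_inv_id).hom.hom)
  have hj' : j ≫ j' = 𝟙 _ := congr($(e.inv_hom_id).hom.hom)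
  haveI : IsMonHom j := e.inv.hom.isMonHom_hom
  haveI : IsMonHom j' := e.hom.hom.isMonHom_hom
  obtain ⟨B, hB⟩ := Groth.L25.SplitSub.exists_good_field (j ≫ φ)
  have key : ∀ s : pt₀ ⟶ Red.DS S₀ M, s ≫ j ≫ φ = 1 ↔ Groth.L25.SplitSub.Kills B s :=
    fun s => hB _ (fun _ => trivial) s
  suffices hB' : B = ⊤ by
    have h1 := (key (t ≫ j')).1 (by simp only [Category.assoc, reassoc_of% hj, ht])
    have h2 : t ≫ j' = 1 := by
      refine Groth.L25.DSPts.char_injective (MonoidHom.ext fun m => ?_)
      rw [Groth.L25.DSPts.char_one, MonoidHom.one_apply]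
      exact h1 (Multiplicative.toAdd m) (hB' ▸ trivial)
    rw [← Category.comp_id t, ← hj, ← Category.assoc, h2, MonObj.one_comp]
  by_contra hne
  haveI : Nontrivial (M ⧸ B) := QuotientAddGroup.nontrivial_iff.2 hne
  haveI : Module.Finite ℤ (M ⧸ B) := by
    haveI := hM
    haveI : Module.Finite ℤ M := Module.Finite.iff_addGroup_fg.2 hM
    exact Module.Finite.of_surjective (QuotientAddGroup.mk' B).toIntLinearMap
      (QuotientAddGroup.mk'_surjective B)
  obtain ⟨χ, m, hm, hχ, hχm⟩ := exists_torsion_char (k := k) (Q := M ⧸ B)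
  let π : Multiplicative M →* Multiplicative (M ⧸ B) := AddMonoidHom.toMultiplicative (QuotientAddGroup.mk' B)
  let Γk : k →* Γ((pt₀).left, ⊤) := (Scheme.ΓSpecIso (CommRingCat.of k)).inv.hom.toMonoidHom
  let ψ := Γk.comp (χ.comp π)
  let s : pt₀ ⟶ Red.DS S₀ M := Groth.L25.DSPts.pt ψ
  have hψm : ψ ^ m = 1 := MonoidHom.ext fun q => by
    show Γk (χ (π q)) ^ m = 1
    rw [← map_pow, hχm, map_one]
  have hsm : s ^ m = 1 := by
    refine Groth.L25.DSPts.char_injective ?_
    have : ∀ n : ℕ, Groth.L25.DSPts.char (s ^ n) = ψ ^ n := fun n => by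
      induction n with
      | zero => rw [pow_zero, pow_zero, Groth.L25.DSPts.char_one]
      | succ n ih => rw [pow_succ, pow_succ, Groth.L25.DSPts.char_mul, ih, Groth.L25.DSPts.char_pt]
    rw [this, hψm, Groth.L25.DSPts.char_one]
  have hs : Groth.L25.SplitSub.Kills B s := fun n hn => by
    rw [Groth.L25.DSPts.char_pt]
    show Γk (χ (π (Multiplicative.ofAdd n))) = 1
    rw [show π (Multiplicative.ofAdd n) = 1 from
      congrArg Multiplicative.ofAdd ((QuotientAddGroup.eq_zero_iff n).2 hn), map_one, map_one]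
  have h3 : s ≫ j = 1 := hφ m _ hm (by rw [← MonObj.pow_comp, hsm, MonObj.one_comp])
    (by rw [Category.assoc]; exact (key s).2 hs)
  have h4 : s = 1 := by rw [← Category.comp_id s, ← hj', ← Category.assoc, h3, MonObj.one_comp]
  refine hχ (MonoidHom.ext fun q => ?_)
  obtain ⟨n, rfl⟩ : ∃ n, π n = q := by
    obtain ⟨n, hn⟩ := QuotientAddGroup.mk'_surjective B (Multiplicative.toAdd q)
    exact ⟨Multiplicative.ofAdd n, congrArg Multiplicative.ofAdd hn⟩
  have h5 := DFunLike.congr_fun (congrArg Groth.L25.DSPts.char h4) n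
  rw [Groth.L25.DSPts.char_pt, Groth.L25.DSPts.char_one] at h5
  exact (ConcreteCategory.bijective_of_isIso (Scheme.ΓSpecIso (CommRingCat.of k)).inv).1
    (h5.trans (map_one Γk).symm)

/-- A closed subset of a torus containing all torsion points is everything. -/
theorem torus_dense [CharZero k] {T : Over S₀} [GrpObj T] (hT : Red.IsTorus T) {Z : Set T.left} (hZ : IsClosed Z)
    (h : ∀ (m : ℕ) (t : pt₀ ⟶ T), 0 < m → t ^ m = 1 → t.left (IsLocalRing.closedPoint k) ∈ Z) :
    Z = Set.univ := by
  haveI : IsAffineHom T.hom :=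
    Groth.L25.Central.isAffineHom_of_multTypeFT (Groth.L25.Locus.isMultTypeFT_of_isTorus hT)
  haveI : Smooth T.hom := (Groth.L25.Locus.smooth_connected_torus hT).1
  haveI : IsAffine T.left := isAffine_of_isAffineHom T.hom
  haveI : IsReduced T.left := Groth.Agent.AV.isReduced_of_smooth_field T.hom
  by_contra hne
  obtain ⟨x, hx⟩ := Set.nonempty_compl.2 hne
  obtain ⟨f, hfZ, hfx⟩ := (isAffineOpen_top T.left).exists_basicOpen_le
    (V := ⟨Zᶜ, hZ.isOpen_compl⟩) ⟨x, hx⟩ trivial
  let A1 : Over S₀ := Over.mk (𝔸(ULift.{u} (Fin 1); S₀) ↘ S₀)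
  haveI : IsSeparated A1.hom := inferInstanceAs (IsSeparated (𝔸(ULift.{u} (Fin 1); S₀) ↘ S₀))
  let a : T ⟶ A1 := Over.homMk (AffineSpace.homOfVector T.hom fun _ => f) (AffineSpace.homOfVector_over _ _)
  let b : T ⟶ A1 := Over.homMk (AffineSpace.homOfVector T.hom fun _ => (0 : Γ(T.left, ⊤)))
    (AffineSpace.homOfVector_over _ _)
  have hab : a = b := Groth.L25.Locus.hom_ext_torsion hT a b fun q t hq _ ht => by
    refine Over.OverMorphism.ext (AffineSpace.hom_ext ?_ fun i => ?_)
    · simp only [Over.comp_left, Category.assoc, a, b, Over.homMk_left, AffineSpace.homOfVector_over]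
    · simp only [Over.comp_left, a, b, Over.homMk_left, AffineSpace.comp_homOfVector, AffineSpace.homOfVector_appTop_coord, Function.comp_apply]
      refine Eq.trans ?_ (map_zero t.left.appTop.hom).symm
      by_contra hne
      have hu : IsUnit (t.left.appTop.hom f) := by
        obtain ⟨c, hc⟩ : ∃ c : k, (Scheme.ΓSpecIso (CommRingCat.of k)).inv.hom c = t.left.appTop.hom f :=
          (ConcreteCategory.bijective_of_isIso (Scheme.ΓSpecIso (CommRingCat.of k)).inv).2 _
        rw [← hc] at hne ⊢
        exact (IsUnit.mk0 c fun h0 => hne (by rw [h0, map_zero])).map _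
      have hmem : t.left (IsLocalRing.closedPoint k) ∈ T.left.basicOpen f := by
        show _ ∈ t.left ⁻¹ᵁ T.left.basicOpen f
        rw [Scheme.preimage_basicOpen]
        exact (congrArg (fun U : TopologicalSpace.Opens (pt₀).left => IsLocalRing.closedPoint k ∈ U)
          (Scheme.basicOpen_of_isUnit _ hu)).mpr trivial
      exact hfZ hmem (h q t hq ht)
  have hf0 : f = 0 := by
    have := congrArg (fun z : T ⟶ A1 => z.left.appTop.hom (AffineSpace.coord S₀ (⟨0⟩ : ULift.{u} (Fin 1)))) hab
    exact (AffineSpace.homOfVector_appTop_coord T.hom (fun _ => f) _).symm.trans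
      (this.trans (AffineSpace.homOfVector_appTop_coord T.hom (fun _ => (0 : Γ(T.left, ⊤))) _))
  rw [hf0, Scheme.basicOpen_zero] at hfx
  exact hfx.elim

end Groth.L24.OneMot
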