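import Groth.Agent.L24.OneMot.Points
import Groth.Agent.L26.AV.TorsKill
import Groth.Agent.L26.AV.TorsCard
import Groth.Agent.L25.DescHom

/-!
# Torsion points of semi-abelian varieties
-/

set_option autoImplicit false
set_option linter.style.haveILetI false
set_option backward.isDefEq.respectTransparency.types false

universe u

open CategoryTheory CategoryTheory.Limits MonoidalCategory CartesianMonoidalCategory MonObj AlgebraicGeometry
open Groth.L08.Cube (kpt)

noncomputable section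

namespace Groth.L24.OneMot

variable {k : Type u} [Field k] [IsAlgClosed k] [CharZero k]

local notation "pt₀" => 𝟙_ (Over (Spec (CommRingCat.of k)))

/-- Postcomposition by a homomorphism on points. -/
def post {G H : Over (Spec (CommRingCat.of k))} [GrpObj G] [GrpObj H] (φ : G ⟶ H) [IsMonHom φ] :
    (pt₀ ⟶ G) →* (pt₀ ⟶ H) :=
  MonoidHom.mk' (fun a => a ≫ φ) fun a b => MonObj.mul_comp a b φ

theorem qc_of_compact {X Y : Over (Spec (CommRingCat.of k))} [QuasiCompact X.hom] [IsSeparated Y.hom] (f : X ⟶ Y) :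
    QuasiCompact f.left := by
  haveI : QuasiCompact (f.left ≫ Y.hom) := by rw [Over.w f]; infer_instance
  exact QuasiCompact.of_comp f.left Y.hom

theorem lft_left {X Y : Over (Spec (CommRingCat.of k))} [LocallyOfFiniteType X.hom] (f : X ⟶ Y) :
    LocallyOfFiniteType f.left := by
  haveI : LocallyOfFiniteType (f.left ≫ Y.hom) := by rw [Over.w f]; infer_instance
  exact locallyOfFiniteType_of_comp f.left Y.hom

/-- Every point of a torus is divisible. -/
theorem torus_div {T : Over (Spec (CommRingCat.of k))} [GrpObj T] [IsCommMonObj T] (hT : Red.IsTorus T) {m : ℕ}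
    (hm : 0 < m) (y : pt₀ ⟶ T) : ∃ x : pt₀ ⟶ T, x ^ m = y := by
  obtain ⟨hTs, hTc⟩ := Groth.L25.Locus.smooth_connected_torus hT
  haveI : IsLocallyNoetherian T.left := LocallyOfFiniteType.isLocallyNoetherian T.hom
  haveI : IrreducibleSpace T.left := Groth.L25.Component.irreducibleSpace T
  haveI : JacobsonSpace T.left := LocallyOfFiniteType.jacobsonSpace T.hom
  have hm' : ((m : ℤ) : k) ≠ 0 := by exact_mod_cast hm.ne'
  haveI : Etale (𝟙 T ^ (m : ℤ)).left := Groth.L08.MulEtale.etale_pow T _ hm'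
  haveI : LocallyOfFiniteType (𝟙 T ^ (m : ℤ)).left := lft_left _
  let U : Set T.left := Set.range (𝟙 T ^ (m : ℤ)).left
  have hU : IsOpen U := (Scheme.Hom.isOpenMap (𝟙 T ^ (m : ℤ)).left).isOpen_range
  have hU1 : ∀ q : pt₀ ⟶ T, kpt (q ^ m) ∈ U := fun q =>
    ⟨kpt q, congrArg (fun z : pt₀ ⟶ T => kpt z) (show q ≫ (𝟙 T ^ (m : ℤ)) = q ^ m by
      rw [GrpObj.comp_zpow, Category.comp_id, zpow_natCast])⟩
  let τ : T ⟶ T := (toUnit T ≫ y) * 𝟙 T
  have hτ : ∀ q : pt₀ ⟶ T, kpt (y * q) = τ.left (kpt q) := fun q =>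
    congrArg (fun z : pt₀ ⟶ T => kpt z) (show y * q = q ≫ τ by
      rw [MonObj.comp_mul, ← Category.assoc, toUnit_unique (q ≫ toUnit T) (𝟙 _), Category.id_comp, Category.comp_id])
  have hne : (τ.left ⁻¹' U).Nonempty := ⟨kpt y⁻¹, by
    show τ.left (kpt y⁻¹) ∈ U
    rw [← hτ, mul_inv_cancel, ← one_pow m]; exact hU1 1⟩
  obtain ⟨z, ⟨hz1, hz2⟩, hzc⟩ := nonempty_inter_closedPoints
    (nonempty_preirreducible_inter (hU.preimage τ.left.continuous) hU hne ⟨kpt ((1 : pt₀ ⟶ T) ^ m), hU1 1⟩)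
    ((hU.preimage τ.left.continuous).inter hU).isLocallyClosed
  obtain ⟨q, rfl⟩ := Groth.L08.Cube.exists_kpt z hzc
  have hlift : ∀ r : pt₀ ⟶ T, kpt r ∈ U → ∃ x : pt₀ ⟶ T, x ^ m = r := by
    intro r ⟨w, hw⟩
    obtain ⟨v, hv, hvc⟩ := nonempty_inter_closedPoints (Z := (𝟙 T ^ (m : ℤ)).left ⁻¹' {kpt r}) ⟨w, hw⟩
      ((Groth.L08.Cube.isClosed_kpt r).preimage (𝟙 T ^ (m : ℤ)).left.continuous).isLocallyClosed
    obtain ⟨x, rfl⟩ := Groth.L08.Cube.exists_kpt v hvc
    refine ⟨x, Groth.L08.Cube.kpt_injective ?_⟩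
    rw [← Set.mem_singleton_iff.1 hv]
    exact congrArg (fun z : pt₀ ⟶ T => kpt z) (show x ^ m = x ≫ (𝟙 T ^ (m : ℤ)) by
      rw [GrpObj.comp_zpow, Category.comp_id, zpow_natCast])
  have hz1' : kpt (y * q) ∈ U := by rw [hτ]; exact hz1
  obtain ⟨a, ha⟩ := hlift _ hz1'
  obtain ⟨b, hb⟩ := hlift q hz2
  exact ⟨a / b, by rw [div_pow, ha, hb, mul_div_cancel_right]⟩

section

variable {T G A : Over (Spec (CommRingCat.of k))} [GrpObj T] [IsCommMonObj T] [GrpObj G] [IsCommMonObj G]
  [GrpObj A] [IsCommMonObj A] {incl : T ⟶ G} {proj : G ⟶ A} [IsMonHom incl] [IsMonHom proj]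
  (h : OneMot.IsSemiAbWith T G A incl proj)

include h in
theorem lift_quot (a : pt₀ ⟶ A) : ∃ g : pt₀ ⟶ G, g ≫ proj = a := by
  obtain ⟨hGs, -, -, hps, -, -, -, -⟩ := props h
  haveI := lft_left proj
  exact exists_lift proj a

include h in
/-- Every point of a semi-abelian variety is divisible. -/
theorem semiab_div {m : ℕ} (hm : 0 < m) (g : pt₀ ⟶ G) : ∃ x : pt₀ ⟶ G, x ^ m = g := by
  haveI := h.abelian.proper
  haveI := geometricallyIntegral_quot h
  obtain ⟨b, hb⟩ := Groth.Agent.AV.TorsPts.exists_pow_eq (A := A) hm (g ≫ proj)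
  obtain ⟨g₀, hg₀⟩ := lift_quot h b
  obtain ⟨t, ht⟩ := exists_lift_ker h (g / g₀ ^ m) (by
    rw [GrpObj.div_comp, MonObj.pow_comp, hg₀]; exact div_eq_one.2 hb.symm)
  obtain ⟨s, hs⟩ := torus_div h.torus hm t
  exact ⟨(s ≫ incl) * g₀, by rw [mul_pow, ← MonObj.pow_comp, hs, ht, div_mul_cancel]⟩

include h in
/-- Torsion points of the abelian quotient lift to torsion points. -/
theorem torsion_lift {m : ℕ} (hm : 0 < m) (a : pt₀ ⟶ A) (ha : a ^ m = 1) :
    ∃ g : pt₀ ⟶ G, g ^ m = 1 ∧ g ≫ proj = a := by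
  obtain ⟨g₀, hg₀⟩ := lift_quot h a
  obtain ⟨t, ht⟩ := exists_lift_ker h (g₀ ^ m) (by rw [MonObj.pow_comp, hg₀, ha])
  obtain ⟨s, hs⟩ := torus_div h.torus hm t
  refine ⟨g₀ / (s ≫ incl), ?_, ?_⟩
  · rw [div_pow, ← MonObj.pow_comp, hs, ht, div_self']
  · rw [GrpObj.div_comp, hg₀, incl_comp_proj h, div_one]

include h in
/-- A homomorphism killing all torsion points is trivial. -/
theorem eq_one_of_torsion {B : Over (Spec (CommRingCat.of k))} [GrpObj B] [LocallyOfFiniteType B.hom] (φ : G ⟶ B)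
    [IsMonHom φ] (hφ : ∀ (m : ℕ) (g : pt₀ ⟶ G), 0 < m → g ^ m = 1 → g ≫ φ = 1) : φ = 1 := by
  haveI : IsSeparated B.hom := Groth.Agent.AV.isSeparated_of_grpObj B
  obtain ⟨hGs, -, -, hps, hpf, hpq, -, -⟩ := props h
  haveI := h.abelian.proper
  haveI := geometricallyIntegral_quot h
  have hi : incl ≫ φ = 1 := Groth.L25.Locus.hom_ext_torsion h.torus (incl ≫ φ) 1 fun q t hq _ ht => by
    rw [MonObj.comp_one, ← Category.assoc]
    exact hφ q _ hq (by rw [← MonObj.pow_comp, ht, MonObj.one_comp])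
  obtain ⟨ρ, hρ, hρ'⟩ := Groth.L25.DescHom.exists_desc_hom incl proj (Groth.L25.DescHom.cov_of_flat proj)
    (isKernel h) φ hi
  haveI : Fact (Nat.Prime 2) := ⟨Nat.prime_two⟩
  have hρ1 : ρ = 1 := Groth.Agent.AV.TorsKill.eq_one_of_kills ρ (l := 2) two_ne_zero fun n a ha => by
    obtain ⟨g, hg, hga⟩ := torsion_lift h (pow_pos two_pos n) a ha
    rw [← hga, Category.assoc, hρ']
    exact hφ _ g (pow_pos two_pos n) hg
  rw [← hρ', hρ1, MonObj.comp_one]

include h in
/-- A homomorphism injective on torsion points is injective on points. -/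
theorem injective_of_torsion {B : Over (Spec (CommRingCat.of k))} [GrpObj B] [LocallyOfFiniteType B.hom] (φ : G ⟶ B)
    [IsMonHom φ] (hφ : ∀ (m : ℕ) (g : pt₀ ⟶ G), 0 < m → g ^ m = 1 → g ≫ φ = 1 → g = 1)
    (x : pt₀ ⟶ G) (hx : x ≫ φ = 1) : x = 1 := by
  haveI : IsSeparated B.hom := Groth.Agent.AV.isSeparated_of_grpObj B
  obtain ⟨hGs, hGq, hGsep, hps, hpf, hpq, hTs, -⟩ := props h
  haveI := h.abelian.proper
  haveI := geometricallyIntegral_quot h
  haveI := mono_incl h
  have hT : ∀ t : pt₀ ⟶ T, (t ≫ incl) ≫ φ = 1 → t = 1 := fun t ht =>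
    torus_injective h.torus (incl ≫ φ) (fun m t hm ht hts => by
      have h1 : t ≫ incl = 1 := hφ m _ hm (by rw [← MonObj.pow_comp, ht, MonObj.one_comp])
        (by rw [Category.assoc]; exact hts)
      exact (cancel_mono incl).1 (h1.trans (MonObj.one_comp incl).symm)) t (by rwa [← Category.assoc])
  suffices hproj : x ≫ proj = 1 by
    obtain ⟨t, rfl⟩ := exists_lift_ker h x hproj
    rw [hT t hx, MonObj.one_comp]
  -- the kernel of `φ`
  let N := pullback φ η[B]
  let i : N ⟶ G := pullback.fst φ η[B]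
  have hi : i ≫ φ = 1 := by
    rw [Hom.one_def, toUnit_unique (toUnit N) (pullback.snd φ η[B])]
    exact pullback.condition
  haveI : Mono η[B] := (IsSplitMono.mk' ⟨toUnit B, toUnit_unique _ _⟩).mono
  haveI : Mono i := inferInstance
  have hlift : ∀ {V : Over (Spec (CommRingCat.of k))} (f : V ⟶ G), f ≫ φ = 1 → ∃ z : V ⟶ N, z ≫ i = f :=
    fun {V} f hf => ⟨pullback.lift f (toUnit V) (by rw [hf, Hom.one_def]), pullback.lift_fst _ _ _⟩
  haveI : IsClosedImmersion η[B].left :=
    isClosedImmersion_of_comp_eq_id (Y := Spec (CommRingCat.of k)) B.hom η[B].left (Over.w η[B])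
  haveI : IsClosedImmersion i.left :=
    MorphismProperty.of_isPullback ((IsPullback.of_hasPullback φ η[B]).map (Over.forget _)).flip ‹_›
  obtain ⟨gN, hiN⟩ := Groth.L08.exists_grpObj_of_mono i
    (hlift η[G] (IsMonHom.one_hom φ |>.trans (by rw [Hom.one_def, toUnit_unique (toUnit _) (𝟙 _), Category.id_comp])))
    (hlift _ (by rw [MonObj.mul_comp, Category.assoc, Category.assoc, hi, MonObj.comp_one, MonObj.comp_one,
      _root_.one_mul]))
    (hlift _ (by rw [GrpObj.inv_comp, hi, inv_one]))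
  letI := gN
  haveI : LocallyOfFiniteType N.hom := by rw [← Over.w i]; infer_instance
  haveI : QuasiCompact N.hom := by rw [← Over.w i]; infer_instance
  haveI : GrpObj (Over.mk N.hom) := inferInstanceAs (GrpObj N)
  haveI : Smooth N.hom := Groth.L25.GrpDeriv.smooth_of_charZero N.hom
  haveI : IsReduced N.left := Groth.Agent.AV.isReduced_of_smooth_field N.hom
  -- the closed subgroup spanned by its image in the quotient
  obtain ⟨C, gC, ic, hic, hicc, hicr, hicl⟩ := Groth.Agent.AV.PointClosure.exists_closureSubgroup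
    ((post φ).ker.map (post proj))
  letI := gC
  haveI : Mono ic := Groth.L08.mono_of_closedImmersion ic
  haveI : IsProper C.hom := by rw [← Over.w ic]; infer_instance
  haveI : IsCommMonObj C := ⟨by
    rw [← cancel_mono ic, Category.assoc, IsMonHom.mul_hom, ← Category.assoc,
      ← BraidedCategory.braiding_naturality, Category.assoc, IsCommMonObj.mul_comm]⟩
  have hker : ∀ n : pt₀ ⟶ N, (n ≫ i) ≫ proj ∈ (post φ).ker.map (post proj) := fun n =>
    ⟨n ≫ i, show (n ≫ i) ≫ φ = 1 by rw [Category.assoc, hi, MonObj.comp_one], rfl⟩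
  have hsub : ∀ y, (i ≫ proj).left y ∈ Set.range ic.left := by
    have h1 : (i ≫ proj).left ⁻¹' Set.range ic.left = Set.univ :=
      dense_of_pts (ic.left.isClosedEmbedding.isClosed_range.preimage (i ≫ proj).left.continuous) fun n => by
        show (i ≫ proj).left (kpt n) ∈ Set.range ic.left
        rw [hicr]
        exact subset_closure ⟨_, hker n, congrArg kpt (Category.assoc n i proj).symm⟩
    exact fun y => (Set.eq_univ_iff_forall.1 h1 y :)
  haveI : Surjective (pullback.snd ic.left (i ≫ proj).left) := ⟨fun y => by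
    obtain ⟨z, hz⟩ := hsub y
    obtain ⟨w, -, hw⟩ := Scheme.Pullback.exists_preimage_pullback z y hz
    exact ⟨w, hw⟩⟩
  obtain ⟨c₀, hc₀⟩ := Groth.L25.GeomRed.exists_factor (pullback.snd ic.left (i ≫ proj).left) (𝟙 _)
  let c : N ⟶ C := Over.homMk (c₀ ≫ pullback.fst ic.left (i ≫ proj).left) (by
    rw [← Over.w ic, Category.assoc, pullback.condition_assoc, Over.w (i ≫ proj), reassoc_of% hc₀])
  have hc : c ≫ ic = i ≫ proj := Over.OverMorphism.ext (by
    show (c₀ ≫ pullback.fst _ _) ≫ ic.left = _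
    rw [Category.assoc, pullback.condition, reassoc_of% hc₀])
  haveI : IsMonHom c :=
    { one_hom := by rw [← cancel_mono ic, Category.assoc, hc, IsMonHom.one_hom, IsMonHom.one_hom]
      mul_hom := by
        rw [← cancel_mono ic, Category.assoc, hc, IsMonHom.mul_hom, Category.assoc, IsMonHom.mul_hom,
          ← Category.assoc, tensorHom_comp_tensorHom, hc] }
  haveI : QuasiCompact c.left := qc_of_compact c
  haveI : LocallyOfFiniteType c.left := lft_left c
  have hdense : DenseRange c.left := by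
    intro y
    have h1 : closure {y | ∃ b ∈ (post φ).ker.map (post proj), y = kpt b} ⊆ ic.left '' closure (Set.range c.left) := by
      refine closure_minimal ?_ (ic.left.isClosedEmbedding.isClosedMap _ isClosed_closure)
      rintro _ ⟨_, ⟨g, hg, rfl⟩, rfl⟩
      obtain ⟨n, hn⟩ := hlift g hg
      refine ⟨c.left (kpt n), subset_closure ⟨_, rfl⟩, ?_⟩
      show kpt ((n ≫ c) ≫ ic) = kpt (g ≫ proj)
      rw [Category.assoc, hc, ← Category.assoc, hn]
    have h2 : ic.left y ∈ Set.range ic.left := ⟨y, rfl⟩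
    rw [hicr] at h2
    obtain ⟨y', hy', hy''⟩ := h1 h2
    obtain rfl := ic.left.isClosedEmbedding.injective hy''
    exact hy'
  haveI : Surjective c.left := Groth.L25.Translate.surjective_of_denseRange c hdense
  -- the points of `C` have no torsion
  have htf : ∀ (m : ℕ) (b : pt₀ ⟶ C), 0 < m → b ^ m = 1 → b = 1 := by
    intro m b hm hb
    obtain ⟨n, rfl⟩ := exists_lift c b
    have hg : ((n ≫ i) ^ m) ≫ proj = 1 := by
      rw [MonObj.pow_comp, Category.assoc, ← hc, ← Category.assoc, ← MonObj.pow_comp, hb, MonObj.one_comp]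
    obtain ⟨t, ht⟩ := exists_lift_ker h _ hg
    have hgφ : (n ≫ i) ≫ φ = 1 := by rw [Category.assoc, hi, MonObj.comp_one]
    have ht1 : t = 1 := hT t (by rw [ht, MonObj.pow_comp, hgφ, one_pow])
    have hg1 : n ≫ i = 1 := hφ m _ hm (by rw [← ht, ht1, MonObj.one_comp]) hgφ
    rw [← cancel_mono ic, Category.assoc, hc, ← Category.assoc, hg1, MonObj.one_comp, MonObj.one_comp]
  obtain ⟨B', gB, j, hj, hjc, hBp, hBg, hjr⟩ := Groth.Agent.AV.Subgroup.exists_redComponent C
  letI := gB
  haveI : IsCommMonObj B' := isCommMonObj_of_isProper_of_geometricallyIntegral B'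
  haveI : Mono j := Groth.L08.mono_of_closedImmersion j
  haveI : Fact (Nat.Prime 2) := ⟨Nat.prime_two⟩
  have hB1 : (𝟙 B' : B' ⟶ B') = 1 :=
    Groth.Agent.AV.TorsKill.eq_one_of_kills (𝟙 B') (l := 2) two_ne_zero fun n a ha => by
      rw [Category.comp_id, ← cancel_mono j, MonObj.one_comp]
      exact htf _ (a ≫ j) (pow_pos two_pos n) (by rw [← MonObj.pow_comp, ha, MonObj.one_comp])
  have hone : ∀ b : pt₀ ⟶ C, kpt b ∈ connectedComponent (Groth.L25.Component.one C) → b = 1 := by
    intro b hb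
    rw [← hjr] at hb
    obtain ⟨z, hz⟩ := hb
    haveI : LocallyOfFiniteType B'.hom := inferInstance
    have hzc : IsClosed ({z} : Set B'.left) := by
      rw [show ({z} : Set B'.left) = j.left ⁻¹' {kpt b} from Set.ext fun w => ⟨fun hw => by
        rw [Set.mem_singleton_iff] at hw; rw [hw]; exact hz, fun hw => j.left.isClosedEmbedding.injective
          (hw.trans hz.symm)⟩]
      exact (Groth.L08.Cube.isClosed_kpt b).preimage j.left.continuous
    obtain ⟨w, rfl⟩ := Groth.L08.Cube.exists_kpt z hzc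
    have hb' : b = w ≫ j := Groth.L08.Cube.kpt_injective hz.symm
    rw [hb', ← Category.comp_id w, hB1, MonObj.comp_one, MonObj.one_comp]
  haveI : IsLocallyNoetherian C.left := LocallyOfFiniteType.isLocallyNoetherian C.hom
  haveI : CompactSpace C.left := QuasiCompact.compactSpace_of_compactSpace C.hom
  haveI : IsNoetherian C.left := {}
  haveI : Finite (irreducibleComponents C.left) :=
    (TopologicalSpace.NoetherianSpace.finite_irreducibleComponents (α := C.left)).to_subtype
  haveI : Finite (pt₀ ⟶ C) := by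
    refine Finite.of_injective (fun b : pt₀ ⟶ C => (⟨connectedComponent (kpt b),
      Groth.L25.Component.connectedComponent_mem C _⟩ : irreducibleComponents C.left)) fun a b hab => ?_
    let f : C ⟶ C := (toUnit C ≫ b⁻¹) * 𝟙 C
    have hf : ∀ q : pt₀ ⟶ C, f.left (kpt q) = kpt (b⁻¹ * q) := fun q =>
      congrArg (fun z : pt₀ ⟶ C => kpt z) (show q ≫ f = b⁻¹ * q by
        rw [MonObj.comp_mul, ← Category.assoc, toUnit_unique (q ≫ toUnit C) (𝟙 _), Category.id_comp, Category.comp_id])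
    have h1 : kpt (1 : pt₀ ⟶ C) = Groth.L25.Component.one C := by
      show (1 : pt₀ ⟶ C).left _ = _
      rw [Hom.one_def, toUnit_unit, Category.id_comp]
      exact congrArg η[C].left (Subsingleton.elim (α := PrimeSpectrum k) _ _)
    have hab' : connectedComponent (kpt a) = connectedComponent (kpt b) := congrArg Subtype.val hab
    have h2 := f.left.continuous.mapsTo_connectedComponent (kpt b)
      (show kpt a ∈ connectedComponent (kpt b) from hab' ▸ mem_connectedComponent)
    rw [hf, hf, inv_mul_cancel, h1] at h2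
    exact (inv_mul_eq_one.1 (hone _ h2)).symm
  obtain ⟨b, hb⟩ := hicl (x ≫ proj) ⟨x, hx, rfl⟩
  have hbc : b ^ Nat.card (pt₀ ⟶ C) = 1 := pow_card_eq_one'
  rw [← hb, htf _ b Nat.card_pos hbc, MonObj.one_comp]

include h in
/-- A homomorphism whose image contains all torsion points is surjective. -/
theorem surjective_of_torsion {G' : Over (Spec (CommRingCat.of k))} [GrpObj G'] [IsCommMonObj G'] [LocallyOfFiniteType G'.hom]
    [QuasiCompact G'.hom] (φ : G' ⟶ G) [IsMonHom φ]
    (hφ : ∀ (m : ℕ) (g : pt₀ ⟶ G), 0 < m → g ^ m = 1 → ∃ x, x ≫ φ = g) : Surjective φ.left := by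
  obtain ⟨hGs, hGq, hGsep, hps, hpf, hpq, hTs, -⟩ := props h
  haveI := h.abelian.proper
  haveI := geometricallyIntegral_quot h
  haveI : Fact (Nat.Prime 2) := ⟨Nat.prime_two⟩
  -- the composite to the abelian quotient is surjective
  obtain ⟨K₂, gK₂, i2, hi2, hi2c, hi2r, hi2l⟩ :=
    Groth.Agent.AV.PointClosure.exists_closureSubgroup (post (φ ≫ proj)).range
  letI := gK₂
  haveI : IsIso i2 := Groth.Agent.AV.Subgroup.isIso_of_torsion_factors i2 (l := 2) two_ne_zero fun n a ha => by
    obtain ⟨g, hg, hga⟩ := torsion_lift h (pow_pos two_pos n) a ha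
    obtain ⟨x, hx⟩ := hφ _ g (pow_pos two_pos n) hg
    exact hi2l a ⟨x, by show x ≫ φ ≫ proj = a; rw [← Category.assoc, hx, hga]⟩
  haveI : IsIso i2.left := inferInstanceAs (IsIso ((Over.forget _).map i2))
  haveI : QuasiCompact (φ ≫ proj).left := qc_of_compact _
  haveI : LocallyOfFiniteType (φ ≫ proj).left := lft_left _
  haveI : Surjective (φ ≫ proj).left := Groth.L25.Translate.surjective_of_denseRange _ fun y => by
    have h1 : y ∈ Set.range i2.left := i2.left.surjective y
    rw [hi2r] at h1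
    refine closure_mono ?_ h1
    rintro _ ⟨_, ⟨x, rfl⟩, rfl⟩
    exact ⟨kpt x, rfl⟩
  -- the closure of the image
  obtain ⟨K, gK, ic, hic, hicc, hicr, hicl⟩ := Groth.Agent.AV.PointClosure.exists_closureSubgroup (post φ).range
  letI := gK
  have hclosed : IsClosed (Set.range ic.left) := ic.left.isClosedEmbedding.isClosed_range
  have hT : incl.left ⁻¹' Set.range ic.left = Set.univ :=
    torus_dense h.torus (hclosed.preimage incl.left.continuous) fun m t hm ht => by
      obtain ⟨x, hx⟩ := hφ m (t ≫ incl) hm (by rw [← MonObj.pow_comp, ht, MonObj.one_comp])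
      show incl.left (kpt t) ∈ Set.range ic.left
      rw [hicr]
      exact subset_closure ⟨t ≫ incl, ⟨x, hx⟩, rfl⟩
  have hall : Set.range ic.left = Set.univ := dense_of_pts hclosed fun z => by
    obtain ⟨x, hx⟩ := exists_lift (φ ≫ proj) (z ≫ proj)
    obtain ⟨t, ht⟩ := exists_lift_ker h (z / (x ≫ φ)) (by
      rw [GrpObj.div_comp, Category.assoc, hx, div_self'])
    obtain ⟨b₁, hb₁⟩ := hicl (x ≫ φ) ⟨x, rfl⟩
    obtain ⟨w, hw⟩ : kpt (t ≫ incl) ∈ Set.range ic.left := (Set.eq_univ_iff_forall.1 hT (kpt t) :)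
    haveI : LocallyOfFiniteType K.hom := by rw [← Over.w ic]; infer_instance
    have hwc : IsClosed ({w} : Set K.left) := by
      rw [show ({w} : Set K.left) = ic.left ⁻¹' {kpt (t ≫ incl)} from Set.ext fun v => ⟨fun hv => by
        rw [Set.mem_singleton_iff] at hv; rw [hv]; exact hw, fun hv => ic.left.isClosedEmbedding.injective
          (hv.trans hw.symm)⟩]
      exact (Groth.L08.Cube.isClosed_kpt _).preimage ic.left.continuous
    obtain ⟨b₂, rfl⟩ := Groth.L08.Cube.exists_kpt w hwc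
    have hb₂ : b₂ ≫ ic = t ≫ incl := Groth.L08.Cube.kpt_injective hw
    refine ⟨kpt (b₂ * b₁), ?_⟩
    show kpt ((b₂ * b₁) ≫ ic) = kpt z
    rw [MonObj.mul_comp, hb₁, hb₂, ht, div_mul_cancel]
  haveI : QuasiCompact φ.left := qc_of_compact φ
  exact Groth.L25.Translate.surjective_of_denseRange φ fun y => by
    have h1 : y ∈ Set.range ic.left := hall ▸ trivial
    rw [hicr] at h1
    refine closure_mono ?_ h1
    rintro _ ⟨_, ⟨x, rfl⟩, rfl⟩
    exact ⟨kpt x, rfl⟩

end

end Groth.L24.OneMot
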