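import Groth.Agent.L24.OneMot.Lattice

/-!
# Torsion realizations of one-motives on rational points
-/

set_option autoImplicit false
set_option linter.style.haveILetI false
set_option backward.isDefEq.respectTransparency.types false

universe u

open CategoryTheory CategoryTheory.Limits MonoidalCategory CartesianMonoidalCategory MonObj AlgebraicGeometry

noncomputable section

namespace Groth.L24.OneMot

variable {k : Type u} [Field k] {M N : OneMot.Motive (Spec (CommRingCat.of k))}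

local notation "pt₀" => 𝟙_ (Over (Spec (CommRingCat.of k)))

local notation "T₀" => Over.mk (𝟙 (Spec (CommRingCat.of k)))

/-- An admissible pair written multiplicatively. -/
def mkPair {M : OneMot.Motive (Spec (CommRingCat.of k))} {m : ℕ} (x : T₀ ⟶ M.L) (g : T₀ ⟶ M.G)
    (h : x ≫ M.u = (g ^ m)⁻¹) : OneMot.tzPairs M m T₀ :=
  ⟨(Additive.ofMul x, Additive.ofMul g), congrArg Additive.ofMul h⟩

theorem rel_of_eq {m : ℕ} {M : OneMot.Motive (Spec (CommRingCat.of k))} (p q : OneMot.tzPairs M m T₀)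
    (h : (p : OneMot.TZMod M m T₀) = q) :
    ∃ z : T₀ ⟶ M.L, z ^ m = p.1.1.toMul⁻¹ * q.1.1.toMul ∧ (z ≫ M.u)⁻¹ = p.1.2.toMul⁻¹ * q.1.2.toMul := by
  obtain ⟨z, hz⟩ := QuotientAddGroup.eq.1 h
  exact ⟨z.toMul, congrArg (fun w => Additive.toMul (Prod.fst w)) hz, congrArg (fun w => Additive.toMul (Prod.snd w)) hz⟩

/-- Equality of realizations, written multiplicatively. -/
theorem exists_of_eq {m : ℕ} {f g : OneMot.Motive.Hom M N} (h : OneMot.tzMap m T₀ f = OneMot.tzMap m T₀ g)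
    (x : T₀ ⟶ M.L) (a : T₀ ⟶ M.G) (hxa : x ≫ M.u = (a ^ m)⁻¹) :
    ∃ z : T₀ ⟶ N.L, z ^ m = (x ≫ f.fL)⁻¹ * (x ≫ g.fL) ∧ (z ≫ N.u)⁻¹ = (a ≫ f.fG)⁻¹ * (a ≫ g.fG) :=
  rel_of_eq ⟨_, OneMot.tzPairs_map_mem m T₀ f (mkPair x a hxa)⟩ ⟨_, OneMot.tzPairs_map_mem m T₀ g (mkPair x a hxa)⟩
    (DFunLike.congr_fun h (QuotientAddGroup.mk (mkPair x a hxa)))

/-- Injectivity of a realization, written multiplicatively. -/
theorem exists_of_injective {m : ℕ} {f : OneMot.Motive.Hom M N} (h : Function.Injective (OneMot.tzMap m T₀ f))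
    (x : T₀ ⟶ M.L) (a : T₀ ⟶ M.G) (hxa : x ≫ M.u = (a ^ m)⁻¹) (hx : x ≫ f.fL = 1) (ha : a ≫ f.fG = 1) :
    ∃ z : T₀ ⟶ M.L, z ^ m = x ∧ (z ≫ M.u)⁻¹ = a := by
  have h0 : OneMot.tzMap m T₀ f (QuotientAddGroup.mk (mkPair x a hxa)) = 0 := by
    refine (QuotientAddGroup.eq_zero_iff _).2 ⟨0, ?_⟩
    show (m • (0 : Additive (T₀ ⟶ N.L)), -Additive.ofMul ((1 : T₀ ⟶ N.L) ≫ N.u)) =
      (Additive.ofMul (x ≫ f.fL), Additive.ofMul (a ≫ f.fG))
    rw [hx, ha, smul_zero, MonObj.one_comp]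
    exact Prod.ext rfl neg_zero
  obtain ⟨z, hz⟩ := (QuotientAddGroup.eq_zero_iff _).1 (h (h0.trans (map_zero _).symm))
  exact ⟨z.toMul, congrArg (fun w => Additive.toMul (Prod.fst w)) hz, congrArg (fun w => Additive.toMul (Prod.snd w)) hz⟩

/-- Surjectivity of a realization, written multiplicatively. -/
theorem exists_of_surjective {m : ℕ} {f : OneMot.Motive.Hom M N} (h : Function.Surjective (OneMot.tzMap m T₀ f))
    (x' : T₀ ⟶ N.L) (a' : T₀ ⟶ N.G) (hxa : x' ≫ N.u = (a' ^ m)⁻¹) :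
    ∃ (x : T₀ ⟶ M.L) (a : T₀ ⟶ M.G) (z : T₀ ⟶ N.L), x ≫ M.u = (a ^ m)⁻¹ ∧ x ≫ f.fL = x' * z ^ m ∧
      a ≫ f.fG = a' * (z ≫ N.u)⁻¹ := by
  obtain ⟨c, hc⟩ := h (QuotientAddGroup.mk (mkPair x' a' hxa))
  induction c using QuotientAddGroup.induction_on with
  | H p =>
    obtain ⟨z, h1, h2⟩ := rel_of_eq (mkPair x' a' hxa) ⟨_, OneMot.tzPairs_map_mem m T₀ f p⟩ hc.symm
    refine ⟨p.1.1.toMul, p.1.2.toMul, z, congrArg Additive.toMul p.2, ?_, ?_⟩
    · rw [h1]; exact (mul_inv_cancel_left x' _).symm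
    · rw [h2]; exact (mul_inv_cancel_left a' _).symm

end Groth.L24.OneMot
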